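import Cfsg.Agent.Lib.Helper25.Dec.Defs
import Cfsg.Agent.Lib.Helper25.Dec.SIG
import Cfsg.Agent.Lib.Helper25.Dec.INJ

/-! Ladder DEC, rung ORBIT. -/

set_option autoImplicit false

namespace Cfsg.Agent.Lib.Helper25.Dec

open Module Cfsg.Agent.Lib.Helper25.Elu

variable {F : Type*} [Field F] {n : ℕ}

/-- `W = ⨆_{s<r-1} D (σ^s j)` has dimension `a (r-1)` (distinct independent summands) and `W ⊓ ker (T - 1) = ⊥`:
with `π_i` the projections of the decomposition, `π_{σ i} (T v) = T (π_i v)`; if `T v = v ∈ W` then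
`π_{σ^(r-1) j} v = 0`, hence `T (π_{σ^(r-2) j} v) = 0`, … all components vanish. -/
theorem orbit_bound {a t : ℕ} {D : Fin t → Submodule F (Fin n → F)}
    (hD : Cfsg.Geo.IsMDecomposition a D) (T : End F (Fin n → F))
    (σ : Equiv.Perm (Fin t)) (hσ : ∀ j, (D j).map T = D (σ j)) {r : ℕ} (hr : r.Prime)
    (hT : T ^ r = 1) {j : Fin t} (hj : σ j ≠ j) :
    a * (r - 1) + finrank F (LinearMap.ker (T - 1)) ≤ n := by
  have hσr := sigma_pow_eq_one hD T σ hσ hT
  have hinj : Function.Injective T := injective_of_pow T hr.pos one_ne_zero (by rw [hT, one_smul])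
  obtain ⟨W, hW⟩ : ∃ W : ℕ → Submodule F (Fin n → F),
      W = fun m => ⨆ s ∈ Finset.range m, D ((σ ^ s) j) := ⟨_, rfl⟩
  have hW0 : W 0 = ⊥ := by rw [hW]; simp
  have hWs : ∀ m, W (m + 1) = D ((σ ^ m) j) ⊔ W m := by
    intro m
    rw [hW]
    simp only [Finset.range_add_one, Finset.iSup_insert]
  have hdis : ∀ m, m < r → Disjoint (D ((σ ^ m) j)) (W m) := by
    intro m hm
    have h1 : (σ ^ m) j ∉ {i | ∃ s, s < m ∧ i = (σ ^ s) j} := by
      rintro ⟨s, hs, h⟩
      have := pow_apply_injOn σ hr hσr hj hm (by omega) h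
      omega
    refine (hD.indep.disjoint_biSup h1).mono_right ?_
    rw [hW]
    refine iSup₂_le fun s hs => ?_
    exact le_iSup₂ (f := fun i (_ : i ∈ {i | ∃ s, s < m ∧ i = (σ ^ s) j}) => D i) ((σ ^ s) j)
      ⟨s, Finset.mem_range.1 hs, rfl⟩
  have hfr : ∀ m, m ≤ r → finrank F (W m) = a * m := by
    intro m
    induction m with
    | zero => intro _; rw [hW0, finrank_bot, mul_zero]
    | succ m ih =>
      intro hm
      have h1 := Submodule.finrank_sup_add_finrank_inf_eq (D ((σ ^ m) j)) (W m)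
      rw [(hdis m (by omega)).eq_bot, finrank_bot, hD.finrank_eq, ih (by omega), ← hWs] at h1
      rw [Nat.mul_succ]
      omega
  have hmap : ∀ m, ∀ x ∈ W m, T x ∈ W (m + 1) := by
    intro m
    induction m with
    | zero =>
      intro x hx
      rw [hW0, Submodule.mem_bot] at hx
      rw [hx, map_zero]; exact Submodule.zero_mem _
    | succ m ih =>
      intro x hx
      rw [hWs m] at hx
      obtain ⟨y, hy, x', hx', rfl⟩ := Submodule.mem_sup.1 hx
      rw [map_add, hWs (m + 1)]
      refine Submodule.add_mem _ (Submodule.mem_sup_left ?_) (Submodule.mem_sup_right (ih x' hx'))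
      rw [pow_succ', Equiv.Perm.mul_apply, ← hσ]
      exact Submodule.mem_map_of_mem hy
  have hfix : ∀ m, m < r → ∀ v ∈ W m, T v = v → v = 0 := by
    intro m
    induction m with
    | zero =>
      intro _ v hv _
      rwa [hW0, Submodule.mem_bot] at hv
    | succ m ih =>
      intro hm v hv hTv
      have hv' := hv
      rw [hWs m] at hv'
      obtain ⟨y, hy, x, hx, rfl⟩ := Submodule.mem_sup.1 hv'
      have hTy1 : T y ∈ D ((σ ^ (m + 1)) j) := by
        rw [pow_succ', Equiv.Perm.mul_apply, ← hσ]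
        exact Submodule.mem_map_of_mem hy
      have hTy2 : T y ∈ W (m + 1) := by
        have : T y = (y + x) - T x := by
          rw [← hTv, map_add]; abel
        rw [this]
        exact Submodule.sub_mem _ hv (hmap m x hx)
      have hTy0 : T y = 0 := (Submodule.disjoint_def.1 (hdis (m + 1) hm)) _ hTy1 hTy2
      have hy0 : y = 0 := hinj (by rw [hTy0, map_zero])
      rw [hy0, zero_add] at hTv ⊢
      exact ih (by omega) x hx hTv
  have hr1 : r - 1 < r := by have := hr.pos; omega
  have hbot : W (r - 1) ⊓ LinearMap.ker (T - 1) = ⊥ := by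
    rw [eq_bot_iff]
    rintro v ⟨h1, h2⟩
    rw [SetLike.mem_coe, LinearMap.mem_ker, LinearMap.sub_apply, Module.End.one_apply,
      sub_eq_zero] at h2
    rw [Submodule.mem_bot]
    exact hfix _ hr1 v h1 h2
  have h1 := Submodule.finrank_sup_add_finrank_inf_eq (W (r - 1)) (LinearMap.ker (T - 1))
  rw [hbot, finrank_bot, hfr _ hr1.le] at h1
  have h2 := Submodule.finrank_le (W (r - 1) ⊔ LinearMap.ker (T - 1))
  rw [Module.finrank_fin_fun] at h2
  omega

end Cfsg.Agent.Lib.Helper25.Dec
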