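import Cfsg.Agent.Lib.Helper25.Dec.Defs
import Cfsg.Agent.Lib.Helper25.Dec.SIG

/-! Ladder DEC, rung SIGONE. -/

set_option autoImplicit false

namespace Cfsg.Agent.Lib.Helper25.Dec

open Module Cfsg.Agent.Lib.Helper25.Elu

variable {F : Type*} [Field F] {n : ℕ}

/-- if `σ j ≠ j` then `D j → ker (T - 1)`, `v ↦ ∑_{s<r} T^s v` is injective: if the sum is `0` then
`v = -∑_{0<s<r} T^s v ∈ D j ⊓ ⨆_{i ≠ j} D i = ⊥` (SIG). So `a ≤ dim ker (T - 1)`. -/
theorem sigma_eq_one {a t : ℕ} {D : Fin t → Submodule F (Fin n → F)}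
    (hD : Cfsg.Geo.IsMDecomposition a D) (T : End F (Fin n → F))
    (σ : Equiv.Perm (Fin t)) (hσ : ∀ j, (D j).map T = D (σ j)) {r : ℕ} (hr : r.Prime)
    (hT : T ^ r = 1) (hC : finrank F (LinearMap.ker (T - 1)) < a) : σ = 1 := by
  by_contra hne
  obtain ⟨j, hj⟩ : ∃ j, σ j ≠ j := by
    by_contra hcon
    push Not at hcon
    exact hne (Equiv.ext hcon)
  have hσr := sigma_pow_eq_one hD T σ hσ hT
  obtain ⟨m, rfl⟩ : ∃ m, r = m + 1 := ⟨r - 1, by have := hr.pos; omega⟩
  obtain ⟨N, hN⟩ : ∃ N : End F (Fin n → F), N = ∑ s ∈ Finset.range (m + 1), T ^ s := ⟨_, rfl⟩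
  have h1 : (T - 1) * N = 0 := by rw [hN, mul_geom_sum, hT, sub_self]
  have hNC : ∀ v, N v ∈ LinearMap.ker (T - 1) := by
    intro v
    have := congrArg (fun f : End F (Fin n → F) => f v) h1
    simpa [Module.End.mul_apply] using this
  have hmem : ∀ s v, v ∈ D j → (T ^ s) v ∈ D ((σ ^ s) j) := by
    intro s v hv
    rw [← map_pow_eq T σ hσ s j]
    exact Submodule.mem_map_of_mem hv
  have hinj : ∀ v ∈ D j, N v = 0 → v = 0 := by
    intro v hv h0
    rw [hN, LinearMap.sum_apply, Finset.sum_range_succ', pow_zero, Module.End.one_apply] at h0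
    have h2 : ∑ s ∈ Finset.range m, (T ^ (s + 1)) v ∈ ⨆ i, ⨆ (_ : i ≠ j), D i := by
      refine Submodule.sum_mem _ fun s hs => ?_
      have hs' : s + 1 < m + 1 := by have := Finset.mem_range.1 hs; omega
      have hne' : (σ ^ (s + 1)) j ≠ j := by
        intro h
        have := pow_apply_injOn σ hr hσr hj hs' (Nat.succ_pos m) (by rw [h, pow_zero]; rfl)
        omega
      exact (le_iSup₂ (f := fun i (_ : i ≠ j) => D i) _ hne') (hmem _ v hv)
    have h3 : v ∈ ⨆ i, ⨆ (_ : i ≠ j), D i := by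
      have : v = -∑ s ∈ Finset.range m, (T ^ (s + 1)) v := by
        rw [eq_neg_iff_add_eq_zero, add_comm]; exact h0
      rw [this]
      exact Submodule.neg_mem _ h2
    exact (Submodule.disjoint_def.1 (hD.indep j)) v hv h3
  let L : D j →ₗ[F] LinearMap.ker (T - 1) := (N.domRestrict (D j)).codRestrict _ (fun v => hNC v)
  have hL : Function.Injective L := by
    rw [← LinearMap.ker_eq_bot, LinearMap.ker_eq_bot']
    intro v hv
    apply Subtype.ext
    exact hinj v v.2 (congrArg Subtype.val hv)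
  have := LinearMap.finrank_le_finrank_of_injective hL
  rw [hD.finrank_eq j] at this
  omega

end Cfsg.Agent.Lib.Helper25.Dec
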